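import Cfsg.Agent.HZ.L.XC.Eng

/-!
# HZ/L, exact types: certificates C5 (helper53; generated by `notes/HZ/py/xc_gen.py`)
-/

set_option autoImplicit false
set_option maxRecDepth 100000
set_option Elab.async false

namespace Cfsg.Agent.HZ.L.XC

open Cfsg.Agent.TAB.Eng

/-- types -/
def Tb22 : List (List ℕ) := [[1], [0, 0]]

/-- Levi subgroups -/
def Lb22 : List (List ℕ × List Gn × List ℕ) := [([0, 0], [], [2, 1, 5])]

theorem Nb22 : okN 2 .B 2 (cls 2 .B 2 Tb22) (rps Tb22) [2, 1, 5] = true := by decide +kernel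

theorem Cb22 : okC 2 .B 2 8 = true := by decide +kernel

theorem Vb22 : allL (okL 2 .B 2 (cls 2 .B 2 Tb22) (rps Tb22)) Lb22 = true := by decide +kernel

theorem Eb22 : Bd .B (col 2 2) [1] 3 4 := bd Nb22 Cb22 Vb22 List.mem_cons_self (z := false) (by decide) 8 [] [(1, []),
    (2, [(1, 0)])] (by decide +kernel)

theorem Zb22 : Bd .B (col 2 2) [1, -1] 1 1 := bd Nb22 Cb22 Vb22 List.mem_cons_self (z := true) (by decide) 8 [[], [1]]
    [(1, []), (0, [(1, 0)])] (by decide +kernel)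

/-- types -/
def Tb21 : List (List ℕ) := [[0, 0]]

/-- Levi subgroups -/
def Lb21 : List (List ℕ × List Gn × List ℕ) := [([0, 1], [(1, 1, true)], [1, 1])]

theorem Nb21 : okN 2 .B 1 (cls 2 .B 1 Tb21) (rps Tb21) [1, 3] = true := by decide +kernel

theorem Cb21 : okC 2 .B 1 4 = true := by decide +kernel

theorem Vb21 : allL (okL 2 .B 1 (cls 2 .B 1 Tb21) (rps Tb21)) Lb21 = true := by decide +kernel

theorem Eb21 : Bd .B (col 2 1) [1] 3 4 := bd Nb21 Cb21 Vb21 List.mem_cons_self (z := false) (by decide) 2 [] [(1, [(1,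
    0)])] (by decide +kernel)

theorem Zb21 : Bd .B (col 2 1) [1, -1] 1 1 := bd Nb21 Cb21 Vb21 List.mem_cons_self (z := true) (by decide) 2 [[1]]
    [(0, [(1, 0)])] (by decide +kernel)

/-- types -/
def Tb33 : List (List ℕ) := [[2], [1, 0], [0, 0, 0]]

/-- Levi subgroups -/
def Lb33 : List (List ℕ × List Gn × List ℕ) := [([0, 1, 2], [(1, 2, false), (2, 2, true)], [0, 1, 0, 1]), ([1, 1, 1],
    [(0, 0, true), (1, 1, true), (2, 2, true)], [2, 0, 1, 3]), ([0, 0, 1], [(2, 2, true)], [0, 2, 1, 5])]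

theorem Nb33 : okN 3 .B 3 (cls 3 .B 3 Tb33) (rps Tb33) [8, 6, 1, 33] = true := by decide +kernel

theorem Cb33 : okC 3 .B 3 48 = true := by decide +kernel

theorem Vb33 : allL (okL 3 .B 3 (cls 3 .B 3 Tb33) (rps Tb33)) Lb33 = true := by decide +kernel

theorem Eb33 : Bd .B (col 3 3) [1] 1 1 := bd Nb33 Cb33 Vb33 List.mem_cons_self (z := false) (by decide) 24 [] [(2,
    [(4, 2), (-3, 1), (-2, 0)]), (2, [(1, 0)]), (6, [(1, 1), (-1, 2)])] (by decide +kernel)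

/-- types -/
def Tb32 : List (List ℕ) := [[1, 0], [0, 0, 0]]

/-- Levi subgroups -/
def Lb32 : List (List ℕ × List Gn × List ℕ) := [([1, 2, 0], [(0, 1, false), (1, 1, true)], [1, 0, 1]), ([0, 0, 1],
    [(2, 2, true)], [2, 1, 5])]

theorem Nb32 : okN 3 .B 2 (cls 3 .B 2 Tb32) (rps Tb32) [2, 1, 13] = true := by decide +kernel

theorem Cb32 : okC 3 .B 2 16 = true := by decide +kernel

theorem Vb32 : allL (okL 3 .B 2 (cls 3 .B 2 Tb32) (rps Tb32)) Lb32 = true := by decide +kernel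

theorem Eb32 : Bd .B (col 3 2) [1] 1 1 := bd Nb32 Cb32 Vb32 List.mem_cons_self (z := false) (by decide) 8 [] [(2, [(1,
    0)]), (3, [(1, 1)])] (by decide +kernel)

/-- types -/
def Tc33 : List (List ℕ) := [[2], [1, 0], [0, 0, 0]]

/-- Levi subgroups -/
def Lc33 : List (List ℕ × List Gn × List ℕ) := [([0, 1, 2], [(1, 2, false), (2, 2, true)], [0, 1, 0, 1]), ([1, 1, 1],
    [(0, 0, true), (1, 1, true), (2, 2, true)], [2, 0, 1, 3]), ([0, 0, 1], [(2, 2, true)], [0, 2, 1, 5])]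

theorem Nc33 : okN 3 .C 3 (cls 3 .C 3 Tc33) (rps Tc33) [8, 6, 1, 33] = true := by decide +kernel

theorem Cc33 : okC 3 .C 3 48 = true := by decide +kernel

theorem Vc33 : allL (okL 3 .C 3 (cls 3 .C 3 Tc33) (rps Tc33)) Lc33 = true := by decide +kernel

theorem Ec33 : Bd .C (col 3 3) [1] 1 1 := bd Nc33 Cc33 Vc33 List.mem_cons_self (z := false) (by decide) 24 [] [(2,
    [(4, 2), (-3, 1), (-2, 0)]), (2, [(1, 0)]), (6, [(1, 1), (-1, 2)])] (by decide +kernel)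

/-- types -/
def Tc31 : List (List ℕ) := [[0, 0, 0], [0, 1]]

/-- Levi subgroups -/
def Lc31 : List (List ℕ × List Gn × List ℕ) := [([0, 1, 2], [(1, 2, false), (2, 2, true)], [0, 1, 1]), ([0, 1, 1],
    [(1, 1, true), (2, 2, true)], [1, 0, 3])]

theorem Nc31 : okN 3 .C 1 (cls 3 .C 1 Tc31) (rps Tc31) [1, 2, 13] = true := by decide +kernel

theorem Cc31 : okC 3 .C 1 8 = true := by decide +kernel

theorem Vc31 : allL (okL 3 .C 1 (cls 3 .C 1 Tc31) (rps Tc31)) Lc31 = true := by decide +kernel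

theorem Ec31 : Bd .C (col 3 1) [1] 1 1 := bd Nc31 Cc31 Vc31 List.mem_cons_self (z := false) (by decide) 4 [] [(2, [(1,
    1)]), (1, [(1, 0)])] (by decide +kernel)

/-- types -/
def Td44 : List (List ℕ) := [[2, 0], [1, 1], [0, 0, 0, 0], [3], [1, 0, 0]]

/-- Levi subgroups -/
def Ld44 : List (List ℕ × List Gn × List ℕ) := [([0, 0, 0, 0], [], [32, 12, 1, 0, 0, 147]), ([0, 0, 0, 0], [(0, 0,
    true)], [0, 0, 0, 48, 12, 132])]

theorem Nd44 : okN 4 .D 4 (cls 4 .D 4 Td44) (rps Td44) [32, 12, 1, 48, 12, 279] = true := by decide +kernel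

theorem Cd44 : okC 4 .D 4 192 = true := by decide +kernel

theorem Vd44 : allL (okL 4 .D 4 (cls 4 .D 4 Td44) (rps Td44)) Ld44 = true := by decide +kernel

theorem Ed44 : Bd .D (col 4 4) [1] 3 4 := bd Nd44 Cd44 Vd44 List.mem_cons_self (z := false) (by decide) 192 [] [(2,
    []), (3, []), (11, [(1, 0)]), (1, []), (3, [(1, 1)])] (by decide +kernel)

theorem Zd44 : Bd .D (col 4 4) [1, -1] 1 1 := bd Nd44 Cd44 Vd44 List.mem_cons_self (z := true) (by decide) 192 [[1,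
    -1, 1], [], [1], [], [0, 0, 1]] [(0, []), (3, []), (0, [(1, 0)]), (1, []), (0, [(1, 1)])] (by decide +kernel)

/-- types -/
def Td42 : List (List ℕ) := [[0, 0, 0, 0], [0, 0, 1], [1, 0, 0], [1, 1]]

/-- Levi subgroups -/
def Ld42 : List (List ℕ × List Gn × List ℕ) := [([1, 1, 2, 2], [(0, 0, true), (1, 1, true), (2, 2, true), (3, 3,
    true)], [1, 0, 0, 0, 3]), ([1, 2, 0, 0], [(0, 1, false), (1, 1, true)], [0, 0, 1, 0, 3]), ([0, 0, 1, 2], [(2, 3,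
    false), (3, 3, true)], [0, 1, 0, 0, 3]), ([0, 0, 1, 2], [(0, 0, true), (2, 3, false), (3, 3, true)], [0, 0, 0, 2,
    2])]

theorem Nd42 : okN 4 .D 2 (cls 4 .D 2 Td42) (rps Td42) [1, 2, 2, 4, 55] = true := by decide +kernel

theorem Cd42 : okC 4 .D 2 16 = true := by decide +kernel

theorem Vd42 : allL (okL 4 .D 2 (cls 4 .D 2 Td42) (rps Td42)) Ld42 = true := by decide +kernel

theorem Ed42 : Bd .D (col 4 2) [1] 3 4 := bd Nd42 Cd42 Vd42 List.mem_cons_self (z := false) (by decide) 4 [] [(3, [(1,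
    0)]), (2, [(1, 2)]), (2, [(1, 1)]), (1, [(1, 3)])] (by decide +kernel)

theorem Zd42 : Bd .D (col 4 2) [1, -1] 1 1 := bd Nd42 Cd42 Vd42 List.mem_cons_self (z := true) (by decide) 4 [[1],
    [1], [0, 0, 1], []] [(0, [(1, 0)]), (0, [(1, 2)]), (0, [(1, 1)]), (1, [(1, 3)])] (by decide +kernel)

/-- types -/
def Td55 : List (List ℕ) := [[3, 0], [2, 1], [1, 0, 0, 0], [4], [2, 0, 0], [1, 1, 0], [0, 0, 0, 0, 0]]

/-- Levi subgroups -/
def Ld55 : List (List ℕ × List Gn × List ℕ) := [([1, 1, 1, 1, 1], [(0, 0, true), (1, 1, true), (2, 2, true), (3, 3,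
    true), (4, 4, true)], [0, 0, 0, 24, 20, 0, 1, 75]), ([0, 0, 0, 1, 2], [(3, 4, false), (4, 4, true)], [0, 0, 0, 0,
    0, 6, 0, 18]), ([0, 0, 0, 1, 2], [(0, 0, true), (3, 4, false), (4, 4, true)], [0, 8, 1, 0, 0, 0, 0, 15]), ([0, 0,
    0, 0, 1], [(4, 4, true)], [0, 0, 0, 0, 32, 12, 1, 147]), ([0, 0, 0, 0, 1], [(0, 0, true), (4, 4, true)], [48, 0,
    12, 0, 0, 0, 0, 132])]

theorem Nd55 : okN 5 .D 5 (cls 5 .D 5 Td55) (rps Td55) [240, 160, 20, 384, 80, 60, 1, 2895] = true :=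
    by decide +kernel

theorem Cd55 : okC 5 .D 5 1920 = true := by decide +kernel

theorem Vd55 : allL (okL 5 .D 5 (cls 5 .D 5 Td55) (rps Td55)) Ld55 = true := by decide +kernel

theorem Ed55 : Bd .D (col 5 5) [1] 3 4 := bd Nd55 Cd55 Vd55 List.mem_cons_self (z := false) (by decide) 960 [] [(2,
    [(-3, 2), (2, 4)]), (2, [(3, 2), (-2, 4)]), (8, [(1, 4), (-1, 2)]), (1, []), (4, [(8, 3), (-5, 0), (-2, 1)]), (4,
    [(1, 1)]), (37, [(2, 0), (-3, 3)])] (by decide +kernel)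

theorem Zd55 : Bd .D (col 5 5) [1, -1] 1 1 := bd Nd55 Cd55 Vd55 List.mem_cons_self (z := true) (by decide) 960 [[0, 0,
    0, 0, 1], [1, -1, 1], [0, 0, 1], [1, -1, 1, -1, 1], [1, -1, 1], [0, 0, 0, 0, 1], [1]] [(0, [(-3, 2), (2, 4)]), (0,
    [(3, 2), (-2, 4)]), (0, [(1, 4), (-1, 2)]), (0, []), (0, [(8, 3), (-5, 0), (-2, 1)]), (0, [(1, 1)]), (0, [(2, 0),
    (-3, 3)])] (by decide +kernel)

/-- types -/
def Td53 : List (List ℕ) := [[1, 0, 0, 0], [1, 0, 1], [2, 0, 0], [0, 0, 0, 0, 0], [2, 1], [0, 0, 0, 1]]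

/-- Levi subgroups -/
def Ld53 : List (List ℕ × List Gn × List ℕ) := [([1, 1, 1, 2, 3], [(0, 0, true), (1, 1, true), (2, 2, true), (3, 3,
    true), (4, 4, true)], [0, 0, 2, 1, 0, 0, 3]), ([1, 1, 1, 2, 3], [(0, 0, true), (1, 1, true), (2, 2, true), (3, 4,
    false), (4, 4, true)], [0, 0, 0, 0, 2, 1, 3]), ([1, 2, 2, 3, 3], [(0, 0, true), (1, 1, true), (2, 2, true), (3, 3,
    true), (4, 4, true)], [0, 0, 0, 1, 0, 0, 3]), ([1, 2, 3, 0, 0], [(0, 1, false), (1, 1, true), (2, 2, true)], [1,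
    0, 0, 0, 0, 0, 3]), ([1, 2, 3, 0, 0], [(0, 1, false), (1, 2, false), (2, 2, true)], [0, 0, 1, 0, 0, 0, 3]), ([1,
    2, 3, 0, 0], [(0, 1, false), (1, 2, false), (2, 2, true), (3, 3, true)], [0, 0, 0, 0, 2, 0, 2]), ([0, 0, 0, 1, 2],
    [(3, 4, false), (4, 4, true)], [0, 6, 0, 0, 0, 0, 18])]

theorem Nd53 : okN 5 .D 3 (cls 5 .D 3 Td53) (rps Td53) [6, 12, 8, 1, 16, 2, 339] = true := by decide +kernel

theorem Cd53 : okC 5 .D 3 96 = true := by decide +kernel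

theorem Vd53 : allL (okL 5 .D 3 (cls 5 .D 3 Td53) (rps Td53)) Ld53 = true := by decide +kernel

theorem Ed53 : Bd .D (col 5 3) [1] 3 4 := bd Nd53 Cd53 Vd53 List.mem_cons_self (z := false) (by decide) 24 [] [(3,
    [(1, 3)]), (2, [(1, 6)]), (2, [(1, 4)]), (8, [(1, 2), (-1, 0)]), (2, [(1, 5)]), (5, [(1, 1)])] (by decide +kernel)

theorem Zd53 : Bd .D (col 5 3) [1, -1] 1 1 := bd Nd53 Cd53 Vd53 List.mem_cons_self (z := true) (by decide) 24 [[0, 0,
    1], [0, 0, 1], [1, -1, 1], [1], [1, -1, 1], [1]] [(0, [(1, 3)]), (0, [(1, 6)]), (0, [(1, 4)]), (0, [(1, 2), (-1,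
    0)]), (0, [(1, 5)]), (0, [(1, 1)])] (by decide +kernel)

end Cfsg.Agent.HZ.L.XC
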