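import Cfsg.Agent.HZ.L.XC.Eng

/-!
# HZ/L, exact types: certificates C6 (helper53; generated by `notes/HZ/py/xc_gen.py`)
-/

set_option autoImplicit false
set_option maxRecDepth 100000
set_option Elab.async false

namespace Cfsg.Agent.HZ.L.XC

open Cfsg.Agent.TAB.Eng

/-- types -/
def Td66 : List (List ℕ) := [[4, 0], [3, 1], [2, 2], [1, 1, 0, 0], [2, 0, 0, 0], [0, 0, 0, 0, 0, 0], [5], [2, 1, 0],
    [3, 0, 0], [1, 1, 1], [1, 0, 0, 0, 0]]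

/-- Levi subgroups -/
def Ld66 : List (List ℕ × List Gn × List ℕ) := [([1, 2, 3, 4, 4, 4], [(0, 1, false), (1, 1, true), (2, 2, true), (3,
    3, true), (4, 4, true), (5, 5, true)], [0, 0, 0, 0, 0, 0, 0, 2, 0, 0, 1, 3]), ([0, 0, 1, 2, 3, 4], [(2, 3, false),
    (3, 4, false), (4, 5, false), (5, 5, true)], [0, 0, 0, 0, 0, 0, 0, 0, 1, 0, 0, 3]), ([0, 0, 1, 2, 3, 4], [(0, 0,
    true), (2, 3, false), (3, 3, true), (4, 5, false), (5, 5, true)], [0, 0, 0, 0, 0, 0, 0, 0, 0, 2, 0, 2]), ([0, 0,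
    1, 2, 3, 4], [(0, 0, true), (2, 3, false), (3, 4, false), (4, 4, true), (5, 5, true)], [0, 0, 0, 0, 0, 0, 0, 2, 0,
    0, 0, 2]), ([0, 0, 1, 2, 3, 4], [(0, 0, true), (2, 3, false), (3, 4, false), (4, 5, false), (5, 5, true)], [0, 2,
    0, 0, 0, 0, 0, 0, 0, 0, 0, 2]), ([1, 1, 1, 2, 2, 2], [(0, 0, true), (1, 1, true), (2, 2, true), (3, 3, true), (4,
    4, true), (5, 5, true)], [0, 0, 4, 0, 4, 1, 0, 0, 0, 0, 0, 27]), ([1, 1, 1, 1, 2, 2], [(0, 0, true), (1, 1, true),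
    (2, 2, true), (3, 3, true), (4, 4, true), (5, 5, true)], [0, 0, 0, 0, 8, 1, 0, 0, 0, 0, 0, 39]), ([1, 2, 2, 2, 2,
    2], [(0, 0, true), (1, 1, true), (2, 2, true), (3, 3, true), (4, 4, true), (5, 5, true)], [24, 0, 0, 0, 20, 1, 0,
    0, 0, 0, 0, 75]), ([0, 0, 0, 1, 2, 3], [(0, 0, true), (3, 4, false), (4, 5, false), (5, 5, true)], [0, 0, 8, 0, 1,
    0, 0, 0, 0, 0, 0, 15]), ([0, 0, 0, 0, 1, 2], [(0, 0, true), (4, 5, false), (5, 5, true)], [0, 48, 0, 12, 0, 0, 0,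
    0, 0, 0, 0, 132]), ([0, 0, 0, 0, 0, 0], [(0, 0, true)], [0, 0, 0, 0, 0, 0, 3840, 960, 720, 120, 30, 17370])]

theorem Nd66_0 : rN 6 .D 6 Td66 [960, 720, 320, 60, 40, 0, 1920, 400, 240, 60, 5, 18315] ((wN 6 6).take 1024) [] =
    true := by decide +kernel

theorem Nd66_1 : rN 6 .D 6 Td66 [2304, 1440, 640, 180, 160, 1, 3840, 960, 720, 120, 30, 35685] ((wN 6 6).drop 1024)
    [960, 720, 320, 60, 40, 0, 1920, 400, 240, 60, 5, 18315] = true := by decide +kernel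

theorem Nd66 : okN 6 .D 6 (cls 6 .D 6 Td66) (rps Td66) [2304, 1440, 640, 180, 160, 1, 3840, 960, 720, 120, 30, 35685]
    = true := (run_split Nd66_0 Nd66_1)

theorem Cd66 : okC 6 .D 6 23040 = true := by decide +kernel

theorem Vd66_0 : okL 6 .D 6 (cls 6 .D 6 Td66) (rps Td66) ([1, 2, 3, 4, 4, 4], [(0, 1, false), (1, 1, true), (2, 2,
    true), (3, 3, true), (4, 4, true), (5, 5, true)], [0, 0, 0, 0, 0, 0, 0, 2, 0, 0, 1, 3]) = true :=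
    by decide +kernel

theorem Vd66_1 : okL 6 .D 6 (cls 6 .D 6 Td66) (rps Td66) ([0, 0, 1, 2, 3, 4], [(2, 3, false), (3, 4, false), (4, 5,
    false), (5, 5, true)], [0, 0, 0, 0, 0, 0, 0, 0, 1, 0, 0, 3]) = true := by decide +kernel

theorem Vd66_2 : okL 6 .D 6 (cls 6 .D 6 Td66) (rps Td66) ([0, 0, 1, 2, 3, 4], [(0, 0, true), (2, 3, false), (3, 3,
    true), (4, 5, false), (5, 5, true)], [0, 0, 0, 0, 0, 0, 0, 0, 0, 2, 0, 2]) = true := by decide +kernel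

theorem Vd66_3 : okL 6 .D 6 (cls 6 .D 6 Td66) (rps Td66) ([0, 0, 1, 2, 3, 4], [(0, 0, true), (2, 3, false), (3, 4,
    false), (4, 4, true), (5, 5, true)], [0, 0, 0, 0, 0, 0, 0, 2, 0, 0, 0, 2]) = true := by decide +kernel

theorem Vd66_4 : okL 6 .D 6 (cls 6 .D 6 Td66) (rps Td66) ([0, 0, 1, 2, 3, 4], [(0, 0, true), (2, 3, false), (3, 4,
    false), (4, 5, false), (5, 5, true)], [0, 2, 0, 0, 0, 0, 0, 0, 0, 0, 0, 2]) = true := by decide +kernel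

theorem Vd66_5 : okL 6 .D 6 (cls 6 .D 6 Td66) (rps Td66) ([1, 1, 1, 2, 2, 2], [(0, 0, true), (1, 1, true), (2, 2,
    true), (3, 3, true), (4, 4, true), (5, 5, true)], [0, 0, 4, 0, 4, 1, 0, 0, 0, 0, 0, 27]) = true :=
    by decide +kernel

theorem Vd66_6 : okL 6 .D 6 (cls 6 .D 6 Td66) (rps Td66) ([1, 1, 1, 1, 2, 2], [(0, 0, true), (1, 1, true), (2, 2,
    true), (3, 3, true), (4, 4, true), (5, 5, true)], [0, 0, 0, 0, 8, 1, 0, 0, 0, 0, 0, 39]) = true :=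
    by decide +kernel

theorem Vd66_7 : okL 6 .D 6 (cls 6 .D 6 Td66) (rps Td66) ([1, 2, 2, 2, 2, 2], [(0, 0, true), (1, 1, true), (2, 2,
    true), (3, 3, true), (4, 4, true), (5, 5, true)], [24, 0, 0, 0, 20, 1, 0, 0, 0, 0, 0, 75]) = true :=
    by decide +kernel

theorem Vd66_8 : okL 6 .D 6 (cls 6 .D 6 Td66) (rps Td66) ([0, 0, 0, 1, 2, 3], [(0, 0, true), (3, 4, false), (4, 5,
    false), (5, 5, true)], [0, 0, 8, 0, 1, 0, 0, 0, 0, 0, 0, 15]) = true := by decide +kernel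

theorem Vd66_9 : okL 6 .D 6 (cls 6 .D 6 Td66) (rps Td66) ([0, 0, 0, 0, 1, 2], [(0, 0, true), (4, 5, false), (5, 5,
    true)], [0, 48, 0, 12, 0, 0, 0, 0, 0, 0, 0, 132]) = true := by decide +kernel

theorem Vd66_10 : okL 6 .D 6 (cls 6 .D 6 Td66) (rps Td66) ([0, 0, 0, 0, 0, 0], [(0, 0, true)], [0, 0, 0, 0, 0, 0,
    3840, 960, 720, 120, 30, 17370]) = true := by decide +kernel

theorem Vd66 : allL (okL 6 .D 6 (cls 6 .D 6 Td66) (rps Td66)) Ld66 = true := (allL_cons Vd66_0 (allL_cons Vd66_1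
    (allL_cons Vd66_2 (allL_cons Vd66_3 (allL_cons Vd66_4 (allL_cons Vd66_5 (allL_cons Vd66_6 (allL_cons Vd66_7
    (allL_cons Vd66_8 (allL_cons Vd66_9 (allL_cons Vd66_10 rfl)))))))))))

theorem Ed66 : Bd .D (col 6 6) [1] 3 4 := bd Nd66 Cd66 Vd66 List.mem_cons_self (z := false) (by decide) 23040 [] [(2,
    [(3, 5), (-5, 7), (-2, 6), (20, 8)]), (3, [(1, 4)]), (5, []), (9, [(1, 9)]), (10, [(1, 8)]), (131, [(1, 6), (1,
    7), (-1, 5)]), (2, []), (4, [(1, 3)]), (4, [(1, 1)]), (11, [(-1, 2), (-1, 0), (128, 10)]), (23, [(1, 10)])]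
    (by decide +kernel)

theorem Zd66 : Bd .D (col 6 6) [1, -1] 1 1 := bd Nd66 Cd66 Vd66 List.mem_cons_self (z := true) (by decide) 23040 [[1,
    -1, 1, -1, 1], [], [1, -1, 1], [0, 0, 0, 0, 1], [1, -1, 1], [1], [], [1, -1, 1], [0, 0, 0, 0, 1], [], [0, 0, 1]]
    [(0, [(3, 5), (-5, 7), (-2, 6), (20, 8)]), (3, [(1, 4)]), (0, []), (0, [(1, 9)]), (0, [(1, 8)]), (0, [(1, 6), (1,
    7), (-1, 5)]), (2, []), (0, [(1, 3)]), (0, [(1, 1)]), (13, [(-1, 2), (-1, 0), (128, 10)]), (0, [(1, 10)])]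
    (by decide +kernel)

/-- types -/
def Td64 : List (List ℕ) := [[2, 0, 0, 0], [1, 1, 0, 0], [0, 0, 0, 0, 0, 0], [2, 0, 1], [1, 1, 1], [0, 0, 0, 0, 1],
    [3, 0, 0], [1, 0, 0, 0, 0], [3, 1], [1, 0, 0, 1]]

/-- Levi subgroups -/
def Ld64 : List (List ℕ × List Gn × List ℕ) := [([1, 2, 3, 4, 5, 5], [(0, 1, false), (1, 1, true), (2, 3, false), (3,
    3, true), (4, 4, true), (5, 5, true)], [0, 1, 0, 0, 0, 0, 0, 0, 0, 0, 1]), ([1, 2, 3, 4, 5, 5], [(0, 1, false),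
    (1, 2, false), (2, 2, true), (3, 3, true), (4, 4, true), (5, 5, true)], [1, 0, 0, 0, 0, 0, 0, 0, 0, 0, 1]), ([1,
    2, 3, 4, 0, 0], [(0, 1, false), (1, 2, false), (2, 2, true), (3, 3, true), (4, 4, true)], [0, 0, 0, 2, 0, 0, 0, 0,
    0, 0, 2]), ([1, 2, 3, 4, 0, 0], [(0, 1, false), (1, 2, false), (2, 3, false), (3, 3, true)], [0, 0, 0, 0, 0, 0, 1,
    0, 0, 0, 3]), ([1, 2, 3, 4, 0, 0], [(0, 1, false), (1, 2, false), (2, 3, false), (3, 3, true), (4, 4, true)], [0,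
    0, 0, 0, 0, 0, 0, 0, 2, 0, 2]), ([0, 0, 1, 2, 3, 4], [(0, 0, true), (2, 3, false), (3, 3, true), (4, 5, false),
    (5, 5, true)], [0, 0, 0, 0, 2, 0, 0, 0, 0, 0, 2]), ([0, 0, 1, 2, 3, 3], [(2, 3, false), (3, 3, true), (4, 4,
    true), (5, 5, true)], [0, 0, 0, 0, 0, 0, 0, 1, 0, 0, 7]), ([0, 0, 0, 0, 1, 2], [(4, 4, true), (5, 5, true)], [32,
    12, 1, 0, 0, 0, 0, 0, 0, 0, 147]), ([0, 0, 0, 0, 1, 2], [(4, 5, false), (5, 5, true)], [0, 0, 0, 32, 12, 1, 0, 0,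
    0, 0, 147]), ([0, 0, 0, 0, 1, 2], [(0, 0, true), (4, 5, false), (5, 5, true)], [0, 0, 0, 0, 0, 0, 0, 0, 48, 12,
    132])]

theorem Nd64 : okN 6 .D 4 (cls 6 .D 4 Td64) (rps Td64) [32, 12, 1, 64, 24, 2, 48, 12, 96, 24, 2757] = true :=
    by decide +kernel

theorem Cd64 : okC 6 .D 4 768 = true := by decide +kernel

theorem Vd64 : allL (okL 6 .D 4 (cls 6 .D 4 Td64) (rps Td64)) Ld64 = true := by decide +kernel

theorem Ed64 : Bd .D (col 6 4) [1] 3 4 := bd Nd64 Cd64 Vd64 List.mem_cons_self (z := false) (by decide) 192 [] [(4,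
    [(1, 1)]), (6, [(1, 0)]), (23, [(1, 7)]), (2, [(1, 2)]), (4, [(1, 5)]), (16, [(1, 8)]), (3, [(1, 3)]), (6, [(1,
    6)]), (2, [(1, 4)]), (4, [(1, 9)])] (by decide +kernel)

theorem Zd64 : Bd .D (col 6 4) [1, -1] 1 1 := bd Nd64 Cd64 Vd64 List.mem_cons_self (z := true) (by decide) 192 [[1,
    -1, 1], [0, 0, 0, 0, 1], [1], [1, -1, 1], [], [1], [0, 0, 0, 0, 1], [0, 0, 1], [], [0, 0, 1]] [(0, [(1, 1)]), (0,
    [(1, 0)]), (0, [(1, 7)]), (0, [(1, 2)]), (5, [(1, 5)]), (0, [(1, 8)]), (0, [(1, 3)]), (0, [(1, 6)]), (2, [(1,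
    4)]), (0, [(1, 9)])] (by decide +kernel)

/-- types -/
def Td63 : List (List ℕ) := [[1, 0, 1, 0], [1, 0, 2], [1, 0, 0, 0, 0], [2, 1, 0], [0, 0, 0, 1, 0], [2, 2], [2, 0, 0,
    0], [0, 0, 0, 2], [0, 0, 0, 0, 0, 0]]

/-- Levi subgroups -/
def Ld63 : List (List ℕ × List Gn × List ℕ) := [([1, 1, 1, 2, 3, 4], [(0, 0, true), (1, 1, true), (2, 2, true), (3, 4,
    false), (4, 5, false), (5, 5, true)], [0, 0, 0, 0, 0, 2, 0, 1, 0, 3]), ([1, 2, 3, 4, 4, 4], [(0, 1, false), (1, 1,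
    true), (2, 2, true), (3, 3, true), (4, 4, true), (5, 5, true)], [0, 2, 1, 0, 0, 0, 0, 0, 0, 3]), ([1, 2, 3, 4, 4,
    4], [(0, 1, false), (1, 2, false), (2, 2, true), (3, 3, true), (4, 4, true), (5, 5, true)], [0, 0, 0, 0, 0, 2, 1,
    0, 0, 3]), ([1, 2, 3, 0, 0, 4], [(0, 1, false), (1, 1, true), (2, 2, true), (5, 5, true)], [0, 0, 1, 0, 0, 0, 0,
    0, 0, 3]), ([1, 2, 3, 0, 0, 4], [(0, 1, false), (1, 2, false), (2, 2, true), (5, 5, true)], [0, 0, 0, 0, 0, 0, 1,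
    0, 0, 3]), ([0, 0, 1, 2, 3, 4], [(2, 2, true), (3, 4, false), (4, 5, false), (5, 5, true)], [0, 0, 0, 0, 0, 0, 0,
    1, 0, 3]), ([1, 1, 1, 2, 2, 2], [(0, 0, true), (1, 1, true), (2, 2, true), (3, 3, true), (4, 4, true), (5, 5,
    true)], [0, 0, 0, 0, 0, 4, 2, 2, 1, 27]), ([0, 0, 0, 1, 2, 3], [(3, 4, false), (4, 4, true), (5, 5, true)], [6, 0,
    0, 0, 0, 0, 0, 0, 0, 18]), ([0, 0, 0, 1, 2, 3], [(3, 4, false), (4, 5, false), (5, 5, true)], [0, 6, 0, 0, 0, 0,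
    0, 0, 0, 18]), ([0, 0, 0, 1, 2, 3], [(0, 0, true), (3, 4, false), (4, 4, true), (5, 5, true)], [0, 0, 0, 8, 1, 0,
    0, 0, 0, 15])]

theorem Nd63 : okN 6 .D 3 (cls 6 .D 3 Td63) (rps Td63) [36, 48, 6, 48, 6, 64, 8, 8, 1, 2079] = true :=
    by decide +kernel

theorem Cd63 : okC 6 .D 3 576 = true := by decide +kernel

theorem Vd63 : allL (okL 6 .D 3 (cls 6 .D 3 Td63) (rps Td63)) Ld63 = true := by decide +kernel

theorem Ed63 : Bd .D (col 6 3) [1] 3 4 := bd Nd63 Cd63 Vd63 List.mem_cons_self (z := false) (by decide) 72 [] [(3,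
    [(1, 7)]), (2, [(1, 8)]), (8, [(1, 3), (-1, 1)]), (2, []), (8, [(1, 9)]), (2, [(3, 0), (-2, 5)]), (7, [(1, 4),
    (-1, 2)]), (7, [(1, 5), (-1, 0)]), (20, [(1, 6)])] (by decide +kernel)

theorem Zd63 : Bd .D (col 6 3) [1, -1] 1 1 := bd Nd63 Cd63 Vd63 List.mem_cons_self (z := true) (by decide) 72 [[0, 0,
    1], [0, 0, 1], [0, 0, 1], [1, -1, 1], [1], [1, -1, 1], [1, -1, 1], [1], [1]] [(0, [(1, 7)]), (0, [(1, 8)]), (0,
    [(1, 3), (-1, 1)]), (0, []), (0, [(1, 9)]), (0, [(3, 0), (-2, 5)]), (0, [(1, 4), (-1, 2)]), (0, [(1, 5), (-1,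
    0)]), (0, [(1, 6)])] (by decide +kernel)

end Cfsg.Agent.HZ.L.XC
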