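import Cfsg.Agent.HZ.L.XC.Eng

/-!
# HZ/L, exact types: certificates C7a (helper53; generated by `notes/HZ/py/xc_gen.py`)
-/

set_option autoImplicit false
set_option maxRecDepth 100000
set_option Elab.async false

namespace Cfsg.Agent.HZ.L.XC

open Cfsg.Agent.TAB.Eng

/-- types -/
def Td77 : List (List ℕ) := [[5, 0], [4, 1], [3, 2], [2, 1, 0, 0], [3, 0, 0, 0], [1, 1, 1, 0], [1, 0, 0, 0, 0, 0],
    [6], [3, 1, 0], [4, 0, 0], [2, 2, 0], [2, 1, 1], [1, 1, 0, 0, 0], [2, 0, 0, 0, 0], [0, 0, 0, 0, 0, 0, 0]]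

/-- Levi subgroups -/
def Ld77 : List (List ℕ × List Gn × List ℕ) := [([0, 0, 1, 2, 3, 4, 5], [(2, 3, false), (3, 4, false), (4, 5, false),
    (5, 6, false), (6, 6, true)], [0, 0, 0, 0, 0, 0, 0, 0, 0, 1, 0, 0, 0, 0, 0, 3]), ([0, 0, 1, 2, 3, 4, 5], [(0, 0,
    true), (2, 3, false), (3, 4, false), (4, 4, true), (5, 6, false), (6, 6, true)], [0, 0, 0, 0, 0, 0, 0, 0, 0, 0, 0,
    2, 0, 0, 0, 2]), ([0, 0, 1, 2, 3, 4, 5], [(0, 0, true), (2, 3, false), (3, 4, false), (4, 5, false), (5, 6,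
    false), (6, 6, true)], [0, 2, 0, 0, 0, 0, 0, 0, 0, 0, 0, 0, 0, 0, 0, 2]), ([1, 2, 2, 2, 2, 3, 3], [(0, 0, true),
    (1, 1, true), (2, 2, true), (3, 3, true), (4, 4, true), (5, 5, true), (6, 6, true)], [0, 0, 0, 0, 0, 0, 0, 0, 0,
    0, 0, 0, 0, 8, 1, 39]), ([1, 2, 3, 3, 3, 3, 3], [(0, 1, false), (1, 1, true), (2, 2, true), (3, 3, true), (4, 4,
    true), (5, 5, true), (6, 6, true)], [0, 24, 0, 20, 0, 0, 1, 0, 0, 0, 0, 0, 0, 0, 0, 75]), ([0, 0, 0, 1, 2, 3, 4],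
    [(3, 4, false), (4, 5, false), (5, 6, false), (6, 6, true)], [0, 0, 0, 0, 0, 0, 0, 0, 6, 0, 0, 0, 0, 0, 0, 18]),
    ([0, 0, 0, 1, 2, 3, 4], [(0, 0, true), (3, 4, false), (4, 5, false), (5, 6, false), (6, 6, true)], [0, 0, 8, 0, 1,
    0, 0, 0, 0, 0, 0, 0, 0, 0, 0, 15]), ([1, 1, 1, 1, 1, 1, 1], [(0, 0, true), (1, 1, true), (2, 2, true), (3, 3,
    true), (4, 4, true), (5, 5, true), (6, 6, true)], [0, 0, 0, 0, 0, 0, 0, 720, 0, 504, 280, 0, 0, 70, 1, 3465]),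
    ([0, 0, 0, 0, 1, 2, 3], [(4, 5, false), (5, 6, false), (6, 6, true)], [0, 0, 0, 0, 0, 0, 0, 0, 0, 0, 32, 12, 0, 1,
    0, 147]), ([0, 0, 0, 0, 1, 2, 3], [(0, 0, true), (4, 5, false), (5, 6, false), (6, 6, true)], [0, 0, 48, 12, 0, 0,
    0, 0, 0, 0, 0, 0, 0, 0, 0, 132]), ([0, 0, 0, 0, 0, 1, 2], [(5, 6, false), (6, 6, true)], [0, 0, 0, 0, 0, 0, 0, 0,
    240, 0, 0, 160, 20, 0, 0, 1500]), ([0, 0, 0, 0, 0, 0, 1], [(0, 0, true), (6, 6, true)], [3840, 0, 0, 960, 720,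
    120, 30, 0, 0, 0, 0, 0, 0, 0, 0, 17370])]

theorem Nd77_0 : rN 7 .D 7 Td77 [0, 0, 0, 0, 0, 0, 0, 0, 0, 0, 0, 0, 0, 0, 0, 23040] ((wN 7 7).take 1024) [] = true :=
    by decide +kernel

theorem Nd77_1 : rN 7 .D 7 Td77 [0, 0, 0, 0, 0, 0, 0, 0, 0, 0, 0, 0, 0, 0, 0, 46080] (((wN 7 7).drop 1024).take 1024)
    [0, 0, 0, 0, 0, 0, 0, 0, 0, 0, 0, 0, 0, 0, 0, 23040] = true := by decide +kernel

theorem Nd77_2 : rN 7 .D 7 Td77 [5760, 2880, 3360, 360, 240, 0, 0, 11520, 1440, 1440, 960, 360, 0, 30, 0, 155970]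
    ((((wN 7 7).drop 1024).drop 1024).take 1024) [0, 0, 0, 0, 0, 0, 0, 0, 0, 0, 0, 0, 0, 0, 0, 46080] = true :=
    by decide +kernel

theorem Nd77_3 : rN 7 .D 7 Td77 [11520, 8064, 6720, 1200, 480, 360, 6, 23040, 4320, 2880, 1920, 1680, 120, 60, 0,
    260190] (((((wN 7 7).drop 1024).drop 1024).drop 1024).take 1024) [5760, 2880, 3360, 360, 240, 0, 0, 11520, 1440,
    1440, 960, 360, 0, 30, 0, 155970] = true := by decide +kernel

theorem Nd77_4 : rN 7 .D 7 Td77 [13440, 8064, 6720, 1600, 720, 420, 11, 23040, 5040, 3840, 2240, 1680, 180, 100, 0,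
    278505] ((((((wN 7 7).drop 1024).drop 1024).drop 1024).drop 1024).take 1024) [11520, 8064, 6720, 1200, 480, 360,
    6, 23040, 4320, 2880, 1920, 1680, 120, 60, 0, 260190] = true := by decide +kernel

theorem Nd77_5 : rN 7 .D 7 Td77 [15360, 8064, 6720, 2160, 1200, 480, 36, 23040, 5760, 5184, 2560, 1680, 300, 220, 1,
    295875] (((((((wN 7 7).drop 1024).drop 1024).drop 1024).drop 1024).drop 1024).take 1024) [13440, 8064, 6720, 1600,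
    720, 420, 11, 23040, 5040, 3840, 2240, 1680, 180, 100, 0, 278505] = true := by decide +kernel

theorem Nd77_6 : rN 7 .D 7 Td77 [21120, 10944, 10080, 2520, 1440, 480, 36, 34560, 7200, 6624, 3520, 2040, 300, 250, 1,
    405765] ((((((((wN 7 7).drop 1024).drop 1024).drop 1024).drop 1024).drop 1024).drop 1024).take 1024) [15360, 8064,
    6720, 2160, 1200, 480, 36, 23040, 5760, 5184, 2560, 1680, 300, 220, 1, 295875] = true := by decide +kernel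

theorem Nd77_7 : rN 7 .D 7 Td77 [26880, 16128, 13440, 3360, 1680, 840, 42, 46080, 10080, 8064, 4480, 3360, 420, 280,
    1, 509985] ((((((((wN 7 7).drop 1024).drop 1024).drop 1024).drop 1024).drop 1024).drop 1024).drop 1024) [21120,
    10944, 10080, 2520, 1440, 480, 36, 34560, 7200, 6624, 3520, 2040, 300, 250, 1, 405765] = true := by decide +kernel

theorem Nd77 : okN 7 .D 7 (cls 7 .D 7 Td77) (rps Td77) [26880, 16128, 13440, 3360, 1680, 840, 42, 46080, 10080, 8064,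
    4480, 3360, 420, 280, 1, 509985] = true := (run_split Nd77_0 (run_split Nd77_1 (run_split Nd77_2 (run_split Nd77_3
    (run_split Nd77_4 (run_split Nd77_5 (run_split Nd77_6 Nd77_7)))))))

theorem Cd77 : okC 7 .D 7 322560 = true := by decide +kernel

theorem Vd77_0 : okL 7 .D 7 (cls 7 .D 7 Td77) (rps Td77) ([0, 0, 1, 2, 3, 4, 5], [(2, 3, false), (3, 4, false), (4, 5,
    false), (5, 6, false), (6, 6, true)], [0, 0, 0, 0, 0, 0, 0, 0, 0, 1, 0, 0, 0, 0, 0, 3]) = true :=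
    by decide +kernel

theorem Vd77_1 : okL 7 .D 7 (cls 7 .D 7 Td77) (rps Td77) ([0, 0, 1, 2, 3, 4, 5], [(0, 0, true), (2, 3, false), (3, 4,
    false), (4, 4, true), (5, 6, false), (6, 6, true)], [0, 0, 0, 0, 0, 0, 0, 0, 0, 0, 0, 2, 0, 0, 0, 2]) = true :=
    by decide +kernel

theorem Vd77_2 : okL 7 .D 7 (cls 7 .D 7 Td77) (rps Td77) ([0, 0, 1, 2, 3, 4, 5], [(0, 0, true), (2, 3, false), (3, 4,
    false), (4, 5, false), (5, 6, false), (6, 6, true)], [0, 2, 0, 0, 0, 0, 0, 0, 0, 0, 0, 0, 0, 0, 0, 2]) = true :=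
    by decide +kernel

theorem Vd77_3 : okL 7 .D 7 (cls 7 .D 7 Td77) (rps Td77) ([1, 2, 2, 2, 2, 3, 3], [(0, 0, true), (1, 1, true), (2, 2,
    true), (3, 3, true), (4, 4, true), (5, 5, true), (6, 6, true)], [0, 0, 0, 0, 0, 0, 0, 0, 0, 0, 0, 0, 0, 8, 1, 39])
    = true := by decide +kernel

theorem Vd77_4 : okL 7 .D 7 (cls 7 .D 7 Td77) (rps Td77) ([1, 2, 3, 3, 3, 3, 3], [(0, 1, false), (1, 1, true), (2, 2,
    true), (3, 3, true), (4, 4, true), (5, 5, true), (6, 6, true)], [0, 24, 0, 20, 0, 0, 1, 0, 0, 0, 0, 0, 0, 0, 0,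
    75]) = true := by decide +kernel

theorem Vd77_5 : okL 7 .D 7 (cls 7 .D 7 Td77) (rps Td77) ([0, 0, 0, 1, 2, 3, 4], [(3, 4, false), (4, 5, false), (5, 6,
    false), (6, 6, true)], [0, 0, 0, 0, 0, 0, 0, 0, 6, 0, 0, 0, 0, 0, 0, 18]) = true := by decide +kernel

theorem Vd77_6 : okL 7 .D 7 (cls 7 .D 7 Td77) (rps Td77) ([0, 0, 0, 1, 2, 3, 4], [(0, 0, true), (3, 4, false), (4, 5,
    false), (5, 6, false), (6, 6, true)], [0, 0, 8, 0, 1, 0, 0, 0, 0, 0, 0, 0, 0, 0, 0, 15]) = true :=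
    by decide +kernel

theorem Vd77_7 : okL 7 .D 7 (cls 7 .D 7 Td77) (rps Td77) ([1, 1, 1, 1, 1, 1, 1], [(0, 0, true), (1, 1, true), (2, 2,
    true), (3, 3, true), (4, 4, true), (5, 5, true), (6, 6, true)], [0, 0, 0, 0, 0, 0, 0, 720, 0, 504, 280, 0, 0, 70,
    1, 3465]) = true := by decide +kernel

theorem Vd77_8 : okL 7 .D 7 (cls 7 .D 7 Td77) (rps Td77) ([0, 0, 0, 0, 1, 2, 3], [(4, 5, false), (5, 6, false), (6, 6,
    true)], [0, 0, 0, 0, 0, 0, 0, 0, 0, 0, 32, 12, 0, 1, 0, 147]) = true := by decide +kernel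

theorem Vd77_9 : okL 7 .D 7 (cls 7 .D 7 Td77) (rps Td77) ([0, 0, 0, 0, 1, 2, 3], [(0, 0, true), (4, 5, false), (5, 6,
    false), (6, 6, true)], [0, 0, 48, 12, 0, 0, 0, 0, 0, 0, 0, 0, 0, 0, 0, 132]) = true := by decide +kernel

theorem Vd77_10 : okL 7 .D 7 (cls 7 .D 7 Td77) (rps Td77) ([0, 0, 0, 0, 0, 1, 2], [(5, 6, false), (6, 6, true)], [0,
    0, 0, 0, 0, 0, 0, 0, 240, 0, 0, 160, 20, 0, 0, 1500]) = true := by decide +kernel

theorem Vd77_11 : okL 7 .D 7 (cls 7 .D 7 Td77) (rps Td77) ([0, 0, 0, 0, 0, 0, 1], [(0, 0, true), (6, 6, true)], [3840,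
    0, 0, 960, 720, 120, 30, 0, 0, 0, 0, 0, 0, 0, 0, 17370]) = true := by decide +kernel

theorem Vd77 : allL (okL 7 .D 7 (cls 7 .D 7 Td77) (rps Td77)) Ld77 = true := (allL_cons Vd77_0 (allL_cons Vd77_1
    (allL_cons Vd77_2 (allL_cons Vd77_3 (allL_cons Vd77_4 (allL_cons Vd77_5 (allL_cons Vd77_6 (allL_cons Vd77_7
    (allL_cons Vd77_8 (allL_cons Vd77_9 (allL_cons Vd77_10 (allL_cons Vd77_11 rfl))))))))))))

theorem Ed77 : Bd .D (col 7 7) [1] 3 4 := bd Nd77 Cd77 Vd77 List.mem_cons_self (z := false) (by decide) 161280 [] [(2,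
    []), (3, [(1, 2)]), (4, []), (8, [(1, 9)]), (11, [(1, 6)]), (16, [(5, 4), (-32, 11)]), (75, [(13, 11), (-2, 4)]),
    (2, []), (4, [(1, 5)]), (5, [(1, 0)]), (7, [(1, 3), (-105, 7), (248, 8), (-31, 1)]), (8, [(1, 1)]), (23, [(1,
    10)]), (29, [(1, 8)]), (491, [(1, 7)])] (by decide +kernel)

theorem Zd77 : Bd .D (col 7 7) [1, -1] 1 1 := bd Nd77 Cd77 Vd77 List.mem_cons_self (z := true) (by decide) 161280 [[0,
    0, 0, 0, 0, 0, 1], [1, -1, 1, -1, 1], [0, 0, 0, 0, 1, -1, 1], [1, -1, 1], [0, 0, 0, 0, 1], [0, 0, 0, 0, 0, 0, 1],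
    [0, 0, 1], [1, -1, 1, -1, 1, -1, 1], [0, 0, 0, 0, 0, 0, 1], [1, -1, 1, -1, 1], [1, -1, 1], [1, -1, 1], [0, 0, 0,
    0, 1], [1, -1, 1], [1]] [(0, []), (0, [(1, 2)]), (0, []), (0, [(1, 9)]), (0, [(1, 6)]), (0, [(5, 4), (-32, 11)]),
    (0, [(13, 11), (-2, 4)]), (0, []), (0, [(1, 5)]), (0, [(1, 0)]), (0, [(1, 3), (-105, 7), (248, 8), (-31, 1)]), (0,
    [(1, 1)]), (0, [(1, 10)]), (0, [(1, 8)]), (0, [(1, 7)])] (by decide +kernel)

end Cfsg.Agent.HZ.L.XC
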