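import Cfsg.Agent.HZ.L.XC.Eng

/-!
# HZ/L, exact types: certificates C7b (helper53; generated by `notes/HZ/py/xc_gen.py`)
-/

set_option autoImplicit false
set_option maxRecDepth 100000
set_option Elab.async false

namespace Cfsg.Agent.HZ.L.XC

open Cfsg.Agent.TAB.Eng

/-- types -/
def Td75 : List (List ℕ) := [[3, 0, 0, 0], [2, 1, 0, 0], [1, 0, 0, 0, 0, 0], [3, 0, 1], [2, 1, 1], [1, 0, 0, 0, 1],
    [4, 0, 0], [2, 0, 0, 0, 0], [1, 1, 0, 0, 0], [0, 0, 0, 0, 0, 0, 0], [4, 1], [2, 0, 0, 1], [1, 1, 0, 1], [0, 0, 0,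
    0, 0, 1]]

/-- Levi subgroups -/
def Ld75 : List (List ℕ × List Gn × List ℕ) := [([1, 2, 3, 4, 5, 6, 6], [(0, 1, false), (1, 2, false), (2, 2, true),
    (3, 4, false), (4, 4, true), (5, 5, true), (6, 6, true)], [0, 1, 0, 0, 0, 0, 0, 0, 0, 0, 0, 0, 0, 0, 1]), ([1, 2,
    3, 3, 3, 4, 5], [(0, 1, false), (1, 1, true), (2, 2, true), (3, 3, true), (4, 4, true), (5, 5, true), (6, 6,
    true)], [0, 2, 1, 0, 0, 0, 0, 0, 0, 0, 0, 0, 0, 0, 3]), ([1, 2, 3, 3, 3, 4, 5], [(0, 1, false), (1, 1, true), (2,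
    2, true), (3, 3, true), (4, 4, true), (5, 6, false), (6, 6, true)], [0, 0, 0, 0, 2, 1, 0, 0, 0, 0, 0, 0, 0, 0,
    3]), ([1, 2, 3, 4, 4, 5, 5], [(0, 1, false), (1, 2, false), (2, 2, true), (3, 3, true), (4, 4, true), (5, 5,
    true), (6, 6, true)], [0, 0, 0, 0, 0, 0, 0, 1, 0, 0, 0, 0, 0, 0, 3]), ([1, 2, 3, 4, 5, 0, 0], [(0, 1, false), (1,
    1, true), (2, 3, false), (3, 3, true), (4, 4, true)], [0, 0, 0, 0, 0, 0, 0, 0, 1, 0, 0, 0, 0, 0, 3]), ([1, 2, 3,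
    4, 5, 0, 0], [(0, 1, false), (1, 2, false), (2, 3, false), (3, 3, true), (4, 4, true)], [1, 0, 0, 0, 0, 0, 0, 0,
    0, 0, 0, 0, 0, 0, 3]), ([1, 2, 3, 4, 5, 0, 0], [(0, 1, false), (1, 2, false), (2, 3, false), (3, 3, true), (4, 4,
    true), (5, 5, true)], [0, 0, 0, 2, 0, 0, 0, 0, 0, 0, 0, 0, 0, 0, 2]), ([1, 2, 3, 4, 5, 0, 0], [(0, 1, false), (1,
    2, false), (2, 3, false), (3, 4, false), (4, 4, true)], [0, 0, 0, 0, 0, 0, 1, 0, 0, 0, 0, 0, 0, 0, 3]), ([1, 2, 3,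
    4, 5, 0, 0], [(0, 1, false), (1, 2, false), (2, 3, false), (3, 4, false), (4, 4, true), (5, 5, true)], [0, 0, 0,
    0, 0, 0, 0, 0, 0, 0, 2, 0, 0, 0, 2]), ([0, 0, 1, 2, 3, 4, 5], [(2, 3, false), (3, 4, false), (4, 4, true), (5, 6,
    false), (6, 6, true)], [0, 0, 0, 0, 0, 0, 0, 0, 0, 0, 0, 1, 0, 0, 3]), ([0, 0, 1, 2, 3, 4, 5], [(0, 0, true), (2,
    3, false), (3, 4, false), (4, 4, true), (5, 6, false), (6, 6, true)], [0, 0, 0, 0, 2, 0, 0, 0, 0, 0, 0, 0, 0, 0,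
    2]), ([1, 1, 1, 1, 1, 2, 3], [(0, 0, true), (1, 1, true), (2, 2, true), (3, 3, true), (4, 4, true), (5, 5, true),
    (6, 6, true)], [0, 0, 0, 0, 0, 0, 24, 20, 0, 1, 0, 0, 0, 0, 75]), ([1, 1, 1, 1, 1, 2, 3], [(0, 0, true), (1, 1,
    true), (2, 2, true), (3, 3, true), (4, 4, true), (5, 6, false), (6, 6, true)], [0, 0, 0, 0, 0, 0, 0, 0, 0, 0, 24,
    20, 0, 1, 75]), ([0, 0, 0, 0, 1, 2, 3], [(4, 4, true), (5, 5, true), (6, 6, true)], [0, 0, 0, 0, 0, 0, 0, 32, 12,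
    1, 0, 0, 0, 0, 147]), ([0, 0, 0, 0, 1, 2, 3], [(4, 4, true), (5, 6, false), (6, 6, true)], [0, 0, 0, 0, 0, 0, 0,
    0, 0, 0, 0, 32, 12, 1, 147]), ([0, 0, 0, 0, 1, 2, 3], [(0, 0, true), (4, 4, true), (5, 6, false), (6, 6, true)],
    [0, 0, 0, 48, 0, 12, 0, 0, 0, 0, 0, 0, 0, 0, 132]), ([0, 0, 0, 0, 1, 2, 2], [(0, 0, true), (4, 4, true), (5, 5,
    true), (6, 6, true)], [48, 0, 12, 0, 0, 0, 0, 0, 0, 0, 0, 0, 0, 0, 324])]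

theorem Nd75_0 : rN 7 .D 5 Td75 [0, 0, 0, 0, 0, 0, 0, 0, 0, 0, 0, 0, 0, 0, 3072] ((wN 7 5).take 1024) [] = true :=
    by decide +kernel

theorem Nd75_1 : rN 7 .D 5 Td75 [96, 80, 4, 192, 160, 8, 192, 24, 24, 0, 384, 48, 48, 0, 14100] (((wN 7 5).drop
    1024).take 1024) [0, 0, 0, 0, 0, 0, 0, 0, 0, 0, 0, 0, 0, 0, 3072] = true := by decide +kernel

theorem Nd75_2 : rN 7 .D 5 Td75 [144, 80, 16, 288, 160, 32, 192, 56, 36, 1, 384, 112, 72, 2, 16857] ((((wN 7 5).drop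
    1024).drop 1024).take 1024) [96, 80, 4, 192, 160, 8, 192, 24, 24, 0, 384, 48, 48, 0, 14100] = true :=
    by decide +kernel

theorem Nd75_3 : rN 7 .D 5 Td75 [240, 160, 20, 480, 320, 40, 384, 80, 60, 1, 768, 160, 120, 2, 27885] ((((wN 7 5).drop
    1024).drop 1024).drop 1024) [144, 80, 16, 288, 160, 32, 192, 56, 36, 1, 384, 112, 72, 2, 16857] = true :=
    by decide +kernel

theorem Nd75 : okN 7 .D 5 (cls 7 .D 5 Td75) (rps Td75) [240, 160, 20, 480, 320, 40, 384, 80, 60, 1, 768, 160, 120, 2,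
    27885] = true := (run_split Nd75_0 (run_split Nd75_1 (run_split Nd75_2 Nd75_3)))

theorem Cd75 : okC 7 .D 5 7680 = true := by decide +kernel

theorem Vd75 : allL (okL 7 .D 5 (cls 7 .D 5 Td75) (rps Td75)) Ld75 = true := by decide +kernel

theorem Ed75 : Bd .D (col 7 5) [1] 3 4 := bd Nd75 Cd75 Vd75 List.mem_cons_self (z := false) (by decide) 1920 [] [(4,
    [(1, 5)]), (5, [(1, 0)]), (16, [(1, 1), (-5, 16)]), (3, [(1, 6)]), (4, [(1, 10)]), (11, [(3, 15), (-1, 2)]), (3,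
    [(1, 7)]), (8, [(1, 3)]), (9, [(1, 4)]), (75, [(2, 11), (-3, 13)]), (2, [(1, 8)]), (5, [(1, 9)]), (6, [(8, 14),
    (-5, 12)]), (53, [(2, 12), (-3, 14)])] (by decide +kernel)

theorem Zd75 : Bd .D (col 7 5) [1, -1] 1 1 := bd Nd75 Cd75 Vd75 List.mem_cons_self (z := true) (by decide) 1920 [[0,
    0, 0, 0, 1], [1, -1, 1], [0, 0, 1], [0, 0, 0, 0, 1], [1, -1, 1], [0, 0, 1], [1, -1, 1, -1, 1], [1, -1, 1], [0, 0,
    0, 0, 1], [1], [1, -1, 1, -1, 1], [1, -1, 1], [0, 0, 0, 0, 1], [1]] [(0, [(1, 5)]), (0, [(1, 0)]), (0, [(1, 1),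
    (-5, 16)]), (0, [(1, 6)]), (0, [(1, 10)]), (0, [(3, 15), (-1, 2)]), (0, [(1, 7)]), (0, [(1, 3)]), (0, [(1, 4)]),
    (0, [(2, 11), (-3, 13)]), (0, [(1, 8)]), (0, [(1, 9)]), (0, [(8, 14), (-5, 12)]), (0, [(2, 12), (-3, 14)])]
    (by decide +kernel)

/-- types -/
def Td74 : List (List ℕ) := [[2, 0, 1, 0], [1, 1, 1, 0], [0, 0, 0, 0, 1, 0], [2, 0, 2], [1, 1, 2], [2, 0, 0, 0, 0],
    [1, 1, 0, 0, 0], [0, 0, 0, 0, 2], [0, 0, 0, 0, 0, 0, 0], [3, 1, 0], [1, 0, 0, 1, 0], [3, 2], [1, 0, 0, 2], [3, 0,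
    0, 0], [1, 0, 0, 0, 0, 0]]

/-- Levi subgroups -/
def Ld74 : List (List ℕ × List Gn × List ℕ) := [([1, 2, 3, 3, 4, 5, 6], [(0, 1, false), (1, 1, true), (2, 2, true),
    (3, 3, true), (4, 5, false), (5, 6, false), (6, 6, true)], [0, 0, 0, 0, 0, 0, 0, 0, 0, 0, 0, 0, 1, 0, 0, 1]), ([1,
    2, 3, 4, 5, 5, 5], [(0, 1, false), (1, 2, false), (2, 2, true), (3, 3, true), (4, 4, true), (5, 5, true), (6, 6,
    true)], [0, 0, 0, 2, 0, 1, 0, 0, 0, 0, 0, 0, 0, 0, 0, 3]), ([1, 1, 1, 1, 2, 3, 4], [(0, 0, true), (1, 1, true),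
    (2, 2, true), (3, 3, true), (4, 4, true), (5, 5, true), (6, 6, true)], [0, 0, 0, 0, 0, 8, 0, 0, 1, 0, 0, 0, 0, 0,
    0, 15]), ([1, 2, 3, 4, 0, 0, 5], [(0, 1, false), (1, 2, false), (2, 2, true), (3, 3, true), (6, 6, true)], [0, 0,
    0, 0, 0, 1, 0, 0, 0, 0, 0, 0, 0, 0, 0, 3]), ([1, 2, 3, 4, 0, 0, 5], [(0, 1, false), (1, 2, false), (2, 2, true),
    (3, 3, true), (4, 4, true), (6, 6, true)], [2, 0, 0, 0, 0, 0, 0, 0, 0, 0, 0, 0, 0, 0, 0, 2]), ([0, 0, 1, 2, 3, 4,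
    5], [(0, 0, true), (2, 3, false), (3, 3, true), (4, 5, false), (5, 5, true), (6, 6, true)], [0, 2, 0, 0, 0, 0, 0,
    0, 0, 0, 0, 0, 0, 0, 0, 2]), ([0, 0, 1, 2, 3, 4, 5], [(0, 0, true), (2, 3, false), (3, 3, true), (4, 5, false),
    (5, 6, false), (6, 6, true)], [0, 0, 0, 0, 2, 0, 0, 0, 0, 0, 0, 0, 0, 0, 0, 2]), ([1, 2, 2, 2, 3, 3, 3], [(0, 0,
    true), (1, 1, true), (2, 2, true), (3, 3, true), (4, 4, true), (5, 5, true), (6, 6, true)], [0, 0, 0, 4, 0, 2, 0,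
    2, 1, 0, 0, 0, 0, 0, 0, 27]), ([1, 2, 3, 4, 0, 0, 0], [(0, 1, false), (1, 1, true), (2, 3, false), (3, 3, true),
    (4, 4, true)], [0, 0, 0, 0, 8, 0, 1, 0, 0, 0, 0, 0, 0, 0, 0, 15]), ([1, 2, 3, 4, 0, 0, 0], [(0, 1, false), (1, 2,
    false), (2, 3, false), (3, 3, true)], [0, 0, 0, 0, 0, 0, 0, 0, 0, 6, 0, 0, 0, 0, 0, 18]), ([1, 2, 3, 4, 0, 0, 0],
    [(0, 1, false), (1, 2, false), (2, 3, false), (3, 3, true), (4, 4, true)], [0, 0, 0, 0, 0, 0, 0, 0, 0, 0, 0, 8, 0,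
    1, 0, 15]), ([1, 2, 3, 3, 0, 0, 0], [(0, 1, false), (1, 1, true), (2, 2, true), (3, 3, true)], [0, 0, 0, 0, 0, 0,
    0, 0, 0, 0, 6, 0, 0, 0, 0, 42]), ([1, 2, 3, 3, 0, 0, 0], [(0, 1, false), (1, 1, true), (2, 2, true), (3, 3, true),
    (4, 4, true)], [0, 0, 0, 0, 0, 0, 0, 0, 0, 0, 0, 0, 8, 0, 1, 39]), ([0, 0, 0, 0, 1, 2, 3], [(4, 5, false), (5, 5,
    true), (6, 6, true)], [32, 12, 1, 0, 0, 0, 0, 0, 0, 0, 0, 0, 0, 0, 0, 147]), ([0, 0, 0, 0, 1, 2, 3], [(4, 5,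
    false), (5, 6, false), (6, 6, true)], [0, 0, 0, 32, 12, 0, 0, 1, 0, 0, 0, 0, 0, 0, 0, 147])]

theorem Nd74_0 : rN 7 .D 4 Td74 [0, 0, 0, 0, 0, 0, 0, 0, 0, 0, 0, 0, 0, 0, 0, 2304] ((wN 7 4).take 1024) [] = true :=
    by decide +kernel

theorem Nd74_1 : rN 7 .D 4 Td74 [72, 36, 0, 96, 48, 12, 6, 0, 0, 144, 18, 192, 24, 24, 3, 8541] (((wN 7 4).drop
    1024).take 1024) [0, 0, 0, 0, 0, 0, 0, 0, 0, 0, 0, 0, 0, 0, 0, 2304] = true := by decide +kernel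

theorem Nd74_2 : rN 7 .D 4 Td74 [120, 36, 6, 160, 48, 20, 6, 8, 1, 144, 54, 192, 72, 24, 9, 10620] ((((wN 7 4).drop
    1024).drop 1024).take 1024) [72, 36, 0, 96, 48, 12, 6, 0, 0, 144, 18, 192, 24, 24, 3, 8541] = true :=
    by decide +kernel

theorem Nd74_3 : rN 7 .D 4 Td74 [192, 72, 6, 256, 96, 32, 12, 8, 1, 288, 72, 384, 96, 48, 12, 16857] ((((wN 7 4).drop
    1024).drop 1024).drop 1024) [120, 36, 6, 160, 48, 20, 6, 8, 1, 144, 54, 192, 72, 24, 9, 10620] = true :=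
    by decide +kernel

theorem Nd74 : okN 7 .D 4 (cls 7 .D 4 Td74) (rps Td74) [192, 72, 6, 256, 96, 32, 12, 8, 1, 288, 72, 384, 96, 48, 12,
    16857] = true := (run_split Nd74_0 (run_split Nd74_1 (run_split Nd74_2 Nd74_3)))

theorem Cd74 : okC 7 .D 4 4608 = true := by decide +kernel

theorem Vd74 : allL (okL 7 .D 4 (cls 7 .D 4 Td74) (rps Td74)) Ld74 = true := by decide +kernel

theorem Ed74 : Bd .D (col 7 4) [1] 3 4 := bd Nd74 Cd74 Vd74 List.mem_cons_self (z := false) (by decide) 576 [] [(4,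
    [(1, 4)]), (6, [(1, 5)]), (23, [(1, 13)]), (3, [(3, 1), (-2, 3)]), (5, [(1, 6)]), (10, [(1, 3), (-1, 1)]), (16,
    [(1, 8)]), (20, [(1, 14)]), (58, [(1, 2), (-1, 7)]), (3, [(1, 9)]), (6, [(1, 11)]), (2, []), (5, [(1, 0)]), (8,
    [(1, 10)]), (16, [(1, 12)])] (by decide +kernel)

theorem Zd74 : Bd .D (col 7 4) [1, -1] 1 1 := bd Nd74 Cd74 Vd74 List.mem_cons_self (z := true) (by decide) 576 [[1,
    -1, 1], [0, 0, 0, 0, 0, 0, 1], [1], [1, -1, 1], [0, 0, 0, 0, 1, -1, 1], [1, -1, 1], [0, 0, 0, 0, 1], [1], [1], [0,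
    0, 0, 0, 0, 0, 1], [0, 0, 1], [0, 0, 0, 0, 1, -1, 1], [0, 0, 1], [0, 0, 0, 0, 1], [0, 0, 1]] [(0, [(1, 4)]), (0,
    [(1, 5)]), (0, [(1, 13)]), (0, [(3, 1), (-2, 3)]), (0, [(1, 6)]), (0, [(1, 3), (-1, 1)]), (0, [(1, 8)]), (0, [(1,
    14)]), (0, [(1, 2), (-1, 7)]), (0, [(1, 9)]), (0, [(1, 11)]), (0, []), (0, [(1, 0)]), (0, [(1, 10)]), (0, [(1,
    12)])] (by decide +kernel)

end Cfsg.Agent.HZ.L.XC
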