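import Cfsg.Agent.HZ.L.Defs
import Cfsg.Agent.LV.Cl.Defs

/-!
# HZ/L, exact types: the statement of the certificates (helper53)

`y : SG n → ℤ` is the multiplicity function of an isolated label with colours `x` (`g` maps `e j` to `g.s j • e (g.π j)`).
-/

set_option autoImplicit false

namespace Cfsg.Agent.HZ.L.XC

open Finset Cfsg.Agent.LV.Cl

variable {n : ℕ}

/-- the colours whose factor contains the sign changes -/
def sgd : Kd → Bool → Bool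
  | .B, _ => true
  | .C, b => b
  | .D, _ => false

/-- the stabiliser of the label -/
def Wc (κ : Kd) (x : Fin n → Bool) : Finset (SG n) :=
  {h | (∀ j, x (h.π j) = x j) ∧ ∀ b, sgd κ b = false → ∏ j with x j = b, h.s j = 1}

/-- the Weyl group of the Levi subgroup of `lam` -/
def Wl (κ : Kd) (lam : Fin n → ℤ) : Finset (SG n) :=
  {u | (∀ j, lam (u.π j) = u.s j * lam j) ∧ (sgd κ true = false → sgn u = 1)}

/-- `μ` is not an eigenvalue -/
def NoE (μ : ℤ) (g : SG n) : Prop := ∀ v : Fin n → ℤ, (∀ j, g.s j * v (g.π j) = μ * v j) → v = 0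

/-- the conditions on the multiplicities; `S` is the list of the missing eigenvalues -/
structure Hy (κ : Kd) (x : Fin n → Bool) (S : List ℤ) (y : SG n → ℤ) : Prop where
  sw : ∀ i j e, i ≠ j → x i = x j → ∀ g, y (sw i j e * g * sw i j e) = y g
  tt : ∀ i, sgd κ (x i) = true → ∀ g, y (tt i * g * tt i) = y g
  supp : ∀ g, y g ≠ 0 → (∀ j, x (g.π j) = x j) ∧ ∀ μ ∈ S, NoE μ g
  levi : ∀ (lam : Fin n → ℤ) (g : SG n), (∀ i, 0 ≤ lam i) →
    (∀ i j, i ≠ j → lam i = lam j → x i = x j ∧ g.π i = i ∧ (lam i ≠ 0 → g.s i = g.s j)) →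
    (∀ i, lam i = 0 → g.π i = i ∧ sgd κ (x i) = sgd κ true) → (#(Wl κ lam) : ℤ) ∣ ∑ u ∈ Wl κ lam, y (u * g)

/-- the norm is at least `a / b` -/
def Bd (κ : Kd) (x : Fin n → Bool) (S : List ℤ) (a b : ℕ) : Prop :=
  ∀ y : SG n → ℤ, Hy κ x S y → y ≠ 0 → (a * #(Wc κ x) : ℤ) ≤ b * ∑ g, y g ^ 2

/-- **the certificates** -/
structure Box : Prop where
  d : ∀ n, 4 ≤ n → n ≤ 7 → ∀ x : Fin n → Bool, (∀ b, #{j | x j = b} ≠ 1) →
    Bd .D x [1] 3 4 ∧ Bd .D x [-1] 3 4 ∧ Bd .D x [1, -1] 1 1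
  b2 : ∀ x : Fin 2 → Bool, Bd .B x [1] 3 4 ∧ Bd .B x [-1] 3 4 ∧ Bd .B x [1, -1] 1 1
  b3 : ∀ x : Fin 3 → Bool, Bd .B x [1] 1 1 ∧ Bd .B x [-1] 1 1
  c3 : ∀ x : Fin 3 → Bool, #{j | x j = false} = 0 ∨ #{j | x j = false} = 2 → Bd .C x [1] 1 1 ∧ Bd .C x [-1] 1 1

end Cfsg.Agent.HZ.L.XC
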